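import Groth.Agent.RelVALib.Projective
import Groth.Agent.CycLib28.PB.OfRelProj
import Groth.Agent.ProjBundle14.LocalTriv
import Groth.Agent.Dual22Lib.ProjSmooth
import Groth.Agent.Props12.FinLocFree
import Groth.Agent.DQCoh.FreeLocus17
import Groth.Agent.CAlgH3.LocFreeFactor
import Groth.Agent.Coherent.Existence.SysKernel
import Groth.Prelude.Def_PerfAux

/-!
# Projective morphisms factor through smooth projective ones when the base has the resolution property
-/

set_option autoImplicit false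
set_option linter.style.haveILetI false
set_option backward.isDefEq.respectTransparency.types false
set_option maxHeartbeats 1000000

universe u

open CategoryTheory CategoryTheory.Limits AlgebraicGeometry Opposite TopologicalSpace
open Groth.Agent.RelVALib

namespace Groth.Agent.ProjEmbH2

variable {X Y P : Scheme.{u}}

/-- The bundle of a finite locally free module is smooth. -/
theorem smooth_bundle {E : Y.Modules} {𝒮 : RelProj.QCGrAlg Y} {j : E ⟶ 𝒮.toModule} {p : P ⟶ Y}
    {chart : ∀ (U : Y.Opens) (hU : IsAffineOpen U), ((p ⁻¹ᵁ U : P.Opens) : Scheme.{u}) ≅ Proj (𝒮.deg U hU)}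
    {O1 : P.Modules}
    {lam : ∀ (U : Y.Opens) (hU : IsAffineOpen U),
      O1 ⟶ (Scheme.Modules.pushforward (RelProj.emb p chart U hU)).obj (GrTwist.twist (𝒮.deg U hU) 1)}
    {φ : E ⟶ (Scheme.Modules.pushforward p).obj O1}
    (D : PBundle E 𝒮 j p chart O1 lam φ) (hE : FlatMod.IsFinLocFree E) : Smooth p := by
  haveI := D.hE
  obtain ⟨q, hq⟩ := CycLib28.PB.exists_isProjBundle D.hE D.hj D.hP D.hO1
  have key : ∀ t : Y, ∃ U : Y.Opens, t ∈ U ∧ ∃ hU : IsAffineOpen U, Smooth (pullback.snd p hU.fromSpec) := by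
    intro t
    obtain ⟨W, n, htW, ⟨e⟩⟩ := hE t
    obtain ⟨U, hU, htU, hUW⟩ := exists_isAffineOpen_mem_and_subset (x := t) (U := W) htW
    refine ⟨U, htU, hU, ?_⟩
    obtain ⟨b⟩ := Props12.exists_basis_sections e hUW
    cases n with
    | zero =>
      haveI : IsEmpty ↥(pullback p hU.fromSpec) := ⟨fun z => by
        have hz : p.base (pullback.fst p hU.fromSpec z) ∈ U := by
          have h1 : p (pullback.fst p hU.fromSpec z) = hU.fromSpec (pullback.snd p hU.fromSpec z) := by
            rw [← Scheme.Hom.comp_apply, ← Scheme.Hom.comp_apply, pullback.condition]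
          have h2 : hU.fromSpec (pullback.snd p hU.fromSpec z) ∈ (U : Set Y) :=
            hU.range_fromSpec.le ⟨_, rfl⟩
          exact h1 ▸ h2
        obtain ⟨e', he'⟩ := D.exists_mem_opn hU hz
        have he0 : e' = 0 := b.repr.injective (Subsingleton.elim _ _)
        obtain ⟨w, hw, -⟩ := he'
        subst he0
        rw [show gen1 j U (0 : Γ(E, U)) = 0 from map_zero _, Proj.basicOpen_zero] at hw
        exact hw⟩
      haveI : IsOpenImmersion (pullback.snd p hU.fromSpec) := inferInstance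
      infer_instance
    | succ m =>
      obtain ⟨g, hg, -⟩ := ProjBundle14.exists_projSquare hq hU b
      rw [← hg.isoPullback_inv_snd, MorphismProperty.cancel_left_of_respectsIso (P := @Smooth)]
      exact Dual22Lib.ProjSmooth.smooth_toSpec m _
  choose U htU hU hsm using key
  let 𝒰 : Y.OpenCover := Scheme.Cover.mkOfCovers Y (fun t => Spec Γ(Y, U t)) (fun t => (hU t).fromSpec)
    (fun t => ⟨t, (hU t).range_fromSpec.ge (htU t)⟩) (fun t => inferInstance)
  exact IsZariskiLocalAtTarget.of_openCover (P := @Smooth) 𝒰 fun t => hsm t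

/-- A projective morphism over a base with the resolution property is a closed immersion into a smooth
projective scheme. -/
theorem exists_closedImmersion_smooth (hY : PerfAux.HasResolutionProperty Y) {f : X ⟶ Y}
    (hf : RelProj.IsProjective f) :
    ∃ (Q : Scheme.{u}) (i : X ⟶ Q) (p : Q ⟶ Y),
      IsClosedImmersion i ∧ Smooth p ∧ RelProj.IsProjective p ∧ i ≫ p = f := by
  obtain ⟨𝒮, P₀, p₀, chart, e, hgen, hft, hP, he⟩ := hf
  obtain ⟨M, ι, hM, hinj, hdeg⟩ := exists_degPiece 𝒮 1
  obtain ⟨E, π, hE, hπ⟩ := hY M hM (isFT_degPiece 𝒮 hft hM ι hinj hdeg)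
  haveI := hM
  haveI := hπ
  haveI : Coh.IsQCoh E := CAlgH3.LocFreeFactor.isQCoh_of_finLocFree hE
  obtain ⟨𝒯, j, Q, p, chart₂, O₂, lam₂, φ, h, D, hcl, hhp, -⟩ :=
    exists_closedImmersion_bundle hgen hP (inferInstance : Coh.IsQCoh E) (π ≫ ι)
      (fun U hU x => (hdeg U hU).1 (π.app U x))
      (fun U hU s hs => by
        obtain ⟨m, hm⟩ := (hdeg U hU).2 s hs
        obtain ⟨x, rfl⟩ := Coherent.Existence.app_surjective_of_epi π hU m
        exact ⟨x, hm⟩)
  exact ⟨Q, e.hom ≫ h, p, inferInstance, smooth_bundle D hE,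
    isProjective_of_closedImmersion D (DQCoh.FreeLocus17.isFT_of_finLocFree hE) (𝟙 Q) (Category.id_comp p),
    by rw [Category.assoc, hhp, he]⟩

/-- The quasi-projective version. -/
theorem exists_closedImmersion_smooth_quasi (hY : PerfAux.HasResolutionProperty Y) {Z : Scheme.{u}}
    (v : X ⟶ Z) [IsOpenImmersion v] {q : Z ⟶ Y} (hq : RelProj.IsProjective q) :
    ∃ (W : Scheme.{u}) (i : X ⟶ W) (p : W ⟶ Y), IsClosedImmersion i ∧ Smooth p ∧
      (∃ (Q : Scheme.{u}) (w : W ⟶ Q) (r : Q ⟶ Y), IsOpenImmersion w ∧ RelProj.IsProjective r ∧ w ≫ r = p) ∧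
      i ≫ p = v ≫ q := by
  obtain ⟨Q, k, r, hk, hr, hrp, hkr⟩ := exists_closedImmersion_smooth hY hq
  haveI := hk
  haveI := hr
  let W : Q.Opens := ⟨(k '' (Set.range v)ᶜ)ᶜ,
    (k.isClosedEmbedding.isClosedMap _ v.isOpenEmbedding.isOpen_range.isClosed_compl).isOpen_compl⟩
  have hrange : Set.range (v ≫ k) ⊆ Set.range W.ι := by
    rintro _ ⟨x, rfl⟩
    rw [Scheme.Opens.range_ι]
    rintro ⟨z, hz, hzx⟩
    exact hz ⟨x, (k.isClosedEmbedding.injective (hzx.trans (Scheme.Hom.comp_apply v k x))).symm⟩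
  let i : X ⟶ W.toScheme := IsOpenImmersion.lift W.ι (v ≫ k) hrange
  have hi : i ≫ W.ι = v ≫ k := IsOpenImmersion.lift_fac _ _ _
  haveI : IsClosedImmersion i := by
    haveI : IsImmersion (i ≫ W.ι) := by rw [hi]; infer_instance
    haveI : IsImmersion i := IsImmersion.of_comp i W.ι
    refine IsClosedImmersion.of_isPreimmersion i ?_
    have hr : Set.range i = W.ι ⁻¹' Set.range k := by
      ext w
      constructor
      · rintro ⟨x, rfl⟩
        exact ⟨v x, by rw [← Scheme.Hom.comp_apply, ← Scheme.Hom.comp_apply, hi]⟩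
      · rintro ⟨z, hz⟩
        by_cases hzv : z ∈ Set.range v
        · obtain ⟨x, rfl⟩ := hzv
          exact ⟨x, W.ι.isOpenEmbedding.injective
            (by rw [← Scheme.Hom.comp_apply, hi, Scheme.Hom.comp_apply]; exact hz)⟩
        · exact absurd ⟨z, hzv, hz⟩ (show W.ι w ∈ W.1 from w.2)
    rw [hr]
    exact k.isClosedEmbedding.isClosed_range.preimage W.ι.continuous
  exact ⟨W, i, W.ι ≫ r, inferInstance, inferInstance, ⟨Q, W.ι, r, inferInstance, hrp, rfl⟩,
    by rw [← Category.assoc, hi, Category.assoc, hkr]⟩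

end Groth.Agent.ProjEmbH2
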