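import Groth.Agent.Unram17Lib.SmoothLocalRing

/-!
# Smooth schemes over regular schemes are regular
-/

set_option autoImplicit false
universe u

open CategoryTheory AlgebraicGeometry

namespace Groth.Agent.ProjEmbH2

theorem isRegularLocalRing_of_smooth {X Y : Scheme.{u}} (f : X ⟶ Y) [Smooth f] [IsLocallyNoetherian Y]
    (hY : ∀ y : Y, IsRegularLocalRing (Y.presheaf.stalk y)) (x : X) :
    IsRegularLocalRing (X.presheaf.stalk x) := by
  have hx : (f.stalkMap x).hom.FormallySmooth :=
    SmoothLib.formallySmooth_stalkMap_of_nhd f (U := ⊤) (TopologicalSpace.Opens.mem_top x)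
  exact (Unram17Lib.isRegularLocalRing_stalk_iff f x hx).2 (hY _)

end Groth.Agent.ProjEmbH2
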